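import Groth.Agent.L10.HullFinite
import Groth.Agent.L18.ValCritEss
import Mathlib.AlgebraicGeometry.FunctionField
import Mathlib.AlgebraicGeometry.AlgClosed.Basic
import Mathlib.AlgebraicGeometry.Morphisms.UniversallyInjective
import Mathlib.RingTheory.Adjoin.Tower

/-!
Global functions along a bijective morphism to a normal variety.
-/

set_option autoImplicit false
set_option linter.style.haveILetI false
set_option backward.isDefEq.respectTransparency false

universe u

open CategoryTheory CategoryTheory.Limits AlgebraicGeometry TopologicalSpace Opposite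

noncomputable section

namespace Groth.L04.GlobFG

variable {X Y : Scheme.{u}}

/-- Over an algebraically closed field a morphism injective on points is universally injective. -/
theorem universallyInjective_of_injective {K : Type u} [Field K] [IsAlgClosed K]
    (f : Y ⟶ Spec (CommRingCat.of K)) [LocallyOfFiniteType f] (g : X ⟶ Spec (CommRingCat.of K))
    (π : Y ⟶ X) (w : π ≫ g = f) [IsSeparated π] [LocallyOfFiniteType π]
    (hπ : Function.Injective π.base) : UniversallyInjective π := by
  refine (UniversallyInjective.iff_diagonal π).2 ⟨?_⟩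
  rw [← Set.range_eq_univ]
  by_contra hne
  haveI : JacobsonSpace ↥(pullback π π) :=
    LocallyOfFiniteType.jacobsonSpace (pullback.fst π π ≫ f)
  obtain ⟨p, hp, hpc⟩ := nonempty_inter_closedPoints (X := ↥(pullback π π))
    (Set.nonempty_compl.mpr hne) (pullback.diagonal π).isClosedEmbedding.isClosed_range.isOpen_compl.isLocallyClosed
  apply hp
  let t := pointOfClosedPoint (pullback.fst π π ≫ f) p hpc
  have ht : t ≫ pullback.fst π π ≫ f = 𝟙 _ := pointOfClosedPoint_comp _ p hpc
  have ht' : (t ≫ pullback.snd π π) ≫ f = 𝟙 _ := by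
    rw [← ht, ← w, Category.assoc, pullback.condition_assoc]
  have hab : t ≫ pullback.fst π π = t ≫ pullback.snd π π := by
    refine ext_of_apply_closedPoint_eq f (by rw [Category.assoc, ht]) ht' (hπ ?_)
    rw [← Scheme.Hom.comp_apply, ← Scheme.Hom.comp_apply, Category.assoc, Category.assoc, pullback.condition]
  have hd : t = (t ≫ pullback.fst π π) ≫ pullback.diagonal π := by
    apply pullback.hom_ext
    · simp
    · simpa using hab.symm
  refine ⟨(t ≫ pullback.fst π π) (IsLocalRing.closedPoint K), ?_⟩
  rw [← Scheme.Hom.comp_apply, ← hd]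
  exact pointOfClosedPoint_apply _ p hpc _

variable [IsIntegral X]

/-- A rational function regular at every point is a global function. -/
theorem exists_global (z : X.functionField)
    (h : ∀ x : X, z ∈ Set.range (algebraMap (X.presheaf.stalk x) X.functionField)) :
    ∃ t : Γ(X, ⊤), X.presheaf.germ ⊤ (genericPoint X) trivial t = z := by
  have key : ∀ x : X, ∃ (N : X.Opens) (_ : x ∈ N) (hg : genericPoint X ∈ N)
      (s : Γ(X, N)), X.presheaf.germ N (genericPoint X) hg s = z := fun x => by
    obtain ⟨s₀, hs₀⟩ := h x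
    obtain ⟨N, hxN, s, rfl⟩ := X.presheaf.exists_germ_eq s₀
    refine ⟨N, hxN, ((genericPoint_spec X).specializes trivial).mem_open N.2 hxN, s, ?_⟩
    rw [← hs₀]
    exact (TopCat.Presheaf.germ_stalkSpecializes_apply X.presheaf hxN
      ((genericPoint_spec X).specializes trivial) s).symm
  choose N hxN hgN s hs using key
  have hcompat : TopCat.Presheaf.IsCompatible X.presheaf N s := fun i j => by
    apply germ_injective_of_isIntegral X (genericPoint X) (show genericPoint X ∈ N i ⊓ N j from ⟨hgN i, hgN j⟩)
    rw [TopCat.Presheaf.germ_res_apply, TopCat.Presheaf.germ_res_apply, hs, hs]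
  obtain ⟨t, ht, -⟩ := TopCat.Sheaf.existsUnique_gluing' X.sheaf N ⊤ (fun i => homOfLE le_top)
    (fun x _ => Opens.mem_iSup.mpr ⟨x, hxN x⟩) s hcompat
  refine ⟨t, ?_⟩
  rw [← hs (genericPoint X), ← ht (genericPoint X)]
  exact (TopCat.Presheaf.germ_res_apply X.presheaf _ _ _ t).symm

/-- On a normal locally Noetherian scheme a rational function regular in codimension one is regular. -/
theorem mem_range_stalk [IsLocallyNoetherian X] (hN : ∀ x : X, IsIntegrallyClosed (X.presheaf.stalk x))
    (z : X.functionField)
    (h : ∀ x : X, ringKrullDim (X.presheaf.stalk x) = 1 →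
      z ∈ Set.range (algebraMap (X.presheaf.stalk x) X.functionField)) (x : X) :
    z ∈ Set.range (algebraMap (X.presheaf.stalk x) X.functionField) := by
  haveI := hN x
  refine Groth.L10.Hull.mem_range_of_height_one (C := X.presheaf.stalk x) z fun P hP hP1 => ?_
  obtain ⟨U, hU, hxU, -⟩ := exists_isAffineOpen_mem_and_subset (x := x) (U := (⊤ : X.Opens)) trivial
  haveI : Nonempty U := ⟨⟨x, hxU⟩⟩
  haveI : Nonempty (U : Scheme) := ⟨⟨x, hxU⟩⟩
  letI := X.presheaf.algebra_section_stalk (⟨x, hxU⟩ : U)
  let S := (hU.primeIdealOf ⟨x, hxU⟩).asIdeal.primeCompl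
  haveI := hU.isLocalization_stalk ⟨x, hxU⟩
  haveI : IsScalarTower Γ(X, U) (X.presheaf.stalk x) X.functionField :=
    IsScalarTower.of_algebraMap_eq fun a => (TopCat.Presheaf.germ_stalkSpecializes_apply X.presheaf hxU
      ((genericPoint_spec X).specializes trivial) a).symm
  let p : Ideal Γ(X, U) := P.under Γ(X, U)
  haveI : p.IsPrime := Ideal.IsPrime.under _ _
  let y : X := hU.fromSpec ⟨p, inferInstance⟩
  have hyU : y ∈ U := hU.range_fromSpec.le ⟨_, rfl⟩
  letI := X.presheaf.algebra_section_stalk (⟨y, hyU⟩ : U)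
  haveI : IsLocalization.AtPrime (X.presheaf.stalk y) p := hU.isLocalization_stalk' ⟨p, inferInstance⟩ hyU
  have hd : ringKrullDim (X.presheaf.stalk y) = 1 := by
    rw [IsLocalization.AtPrime.ringKrullDim_eq_height p (X.presheaf.stalk y),
      show p.height = 1 from (IsLocalization.height_under S P).trans hP1]
    rfl
  obtain ⟨c, hc⟩ := h y hd
  haveI : IsScalarTower Γ(X, U) (X.presheaf.stalk y) X.functionField :=
    IsScalarTower.of_algebraMap_eq fun a => (TopCat.Presheaf.germ_stalkSpecializes_apply X.presheaf hyU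
      ((genericPoint_spec X).specializes trivial) a).symm
  obtain ⟨⟨a, b⟩, hab⟩ := IsLocalization.surj p.primeCompl c
  refine ⟨algebraMap Γ(X, U) (X.presheaf.stalk x) b, fun hb => b.2 hb, algebraMap Γ(X, U) (X.presheaf.stalk x) a, ?_⟩
  rw [← IsScalarTower.algebraMap_apply, ← IsScalarTower.algebraMap_apply,
    IsScalarTower.algebraMap_apply Γ(X, U) (X.presheaf.stalk y) X.functionField,
    IsScalarTower.algebraMap_apply Γ(X, U) (X.presheaf.stalk y) X.functionField, ← hc, ← map_mul]
  exact congrArg _ (hab.symm.trans (mul_comm _ _))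

variable [IsIntegral Y] (π : Y ⟶ X)

/-- The map of function fields. -/
def ffHom (hη : π (genericPoint Y) = genericPoint X) : X.functionField ⟶ Y.functionField :=
  X.presheaf.stalkSpecializes (specializes_of_eq hη) ≫ π.stalkMap (genericPoint Y)

theorem ffHom_algebraMap (hη : π (genericPoint Y) = genericPoint X) (y : Y) (c : X.presheaf.stalk (π y)) :
    ffHom π hη (algebraMap _ X.functionField c) = algebraMap _ Y.functionField (π.stalkMap y c) := by
  refine Eq.trans (congrArg (π.stalkMap (genericPoint Y)) ?_)
    (Scheme.Hom.stalkSpecializes_stalkMap_apply π _ _ ((genericPoint_spec Y).specializes trivial) c)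
  exact congr($(TopCat.Presheaf.stalkSpecializes_comp X.presheaf (specializes_of_eq hη)
    ((genericPoint_spec X).specializes trivial)) c)

theorem exists_pow_mem [IsLocallyNoetherian X] [Surjective π]
    (hN : ∀ x : X, IsIntegrallyClosed (X.presheaf.stalk x))
    [UniversallyInjective π] (s : Γ(Y, ⊤)) :
    ∃ N : ℕ, 0 < N ∧ s ^ N ∈ Set.range π.appTop := by
  have hη : π (genericPoint Y) = genericPoint X :=
    ((genericPoint_spec Y).image π.continuous).eq (by
      rw [Set.image_univ, π.surjective.range_eq, closure_univ]; exact genericPoint_spec _)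
  have hi₀ : Function.Injective π ∧ ∀ x, (π.residueFieldMap x).hom.IsPurelyInseparable :=
    ((tfae_universallyInjective π).out 0 2).1 (inferInstance : UniversallyInjective π)
  have hi := hi₀.2 (genericPoint Y)
  let γ := Y.presheaf.germ ⊤ (genericPoint Y) trivial
  letI := (π.residueFieldMap (genericPoint Y)).hom.toAlgebra
  haveI : IsPurelyInseparable (X.residueField (π (genericPoint Y))) (Y.residueField (genericPoint Y)) := hi
  obtain ⟨n, a, ha⟩ := IsPurelyInseparable.pow_mem (X.residueField (π (genericPoint Y)))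
    (ringExpChar (X.residueField (π (genericPoint Y)))) (Y.residue (genericPoint Y) (γ s))
  obtain ⟨a, rfl⟩ := X.residue_surjective (π (genericPoint Y)) a
  let N := ringExpChar (X.residueField (π (genericPoint Y))) ^ n
  refine ⟨N, pow_pos (expChar_pos (X.residueField (π (genericPoint Y))) _) n, ?_⟩
  have ha' : π.stalkMap (genericPoint Y) a = γ s ^ N := by
    refine RingHom.injective (R := Y.functionField) (Y.residue (genericPoint Y)).hom ?_
    rw [map_pow]
    exact (congr($(Scheme.residue_residueFieldMap π (genericPoint Y)) a).symm).trans ha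
  let z : X.functionField := X.presheaf.stalkSpecializes (specializes_of_eq hη.symm) a
  have hz : ffHom π hη z = γ s ^ N := by
    rw [← ha']
    refine congrArg (π.stalkMap (genericPoint Y)) ?_
    refine (congr($(TopCat.Presheaf.stalkSpecializes_comp X.presheaf (specializes_of_eq hη)
      (specializes_of_eq hη.symm)) a)).trans ?_
    exact congr($(TopCat.Presheaf.stalkSpecializes_refl X.presheaf _) a)
  obtain ⟨t, ht⟩ := exists_global z (mem_range_stalk hN z fun x hx => by
    obtain ⟨y, rfl⟩ := π.surjective x
    haveI := hN (π y)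
    haveI := Groth.L18.ValCritEss.isDVR_of_dim_one hx
    rcases ValuationRing.isInteger_or_isInteger (X.presheaf.stalk (π y)) z with ⟨c, hc⟩ | ⟨c, hc⟩
    · exact ⟨c, hc⟩
    rcases eq_or_ne z 0 with h0 | h0
    · exact ⟨0, by rw [map_zero, h0]⟩
    by_cases hu : IsUnit c
    · obtain ⟨u, rfl⟩ := hu
      exact ⟨((u⁻¹ : (X.presheaf.stalk (π y))ˣ) : X.presheaf.stalk (π y)), by
        rw [map_units_inv, hc, inv_inv]⟩
    exfalso
    apply hu
    refine (isUnit_map_iff (π.stalkMap y).hom c).1 ?_
    have h1 : algebraMap _ Y.functionField (π.stalkMap y c) * γ s ^ N = 1 := by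
      rw [← hz, ← ffHom_algebraMap π hη, hc, ← map_mul, inv_mul_cancel₀ h0, map_one]
    let d : Y.presheaf.stalk y := Y.presheaf.germ ⊤ y trivial (s ^ N)
    have hd : algebraMap _ Y.functionField d = γ s ^ N := by
      rw [← map_pow]
      exact TopCat.Presheaf.germ_stalkSpecializes_apply Y.presheaf (U := ⊤) (hy := trivial)
        ((genericPoint_spec Y).specializes trivial) _
    refine IsUnit.of_mul_eq_one d ?_
    apply IsFractionRing.injective (Y.presheaf.stalk y) Y.functionField
    rw [map_mul, map_one, hd]
    exact h1)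
  refine ⟨t, germ_injective_of_isIntegral Y (genericPoint Y) (U := ⊤) trivial ?_⟩
  rw [map_pow, ← hz]
  refine (Scheme.Hom.germ_stalkMap_apply π ⊤ (genericPoint Y) trivial t).symm.trans ?_
  refine congrArg (π.stalkMap (genericPoint Y)) ?_
  rw [← ht]
  exact (TopCat.Presheaf.germ_stalkSpecializes_apply X.presheaf (U := ⊤) (hy := trivial) (specializes_of_eq hη) t).symm

theorem finiteType_sections {k : Type u} [Field k] [IsLocallyNoetherian X] [Surjective π]
    (hN : ∀ x : X, IsIntegrallyClosed (X.presheaf.stalk x)) [UniversallyInjective π]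
    (φ : CommRingCat.of k ⟶ Γ(X, ⊤)) (h : (φ ≫ π.appTop).hom.FiniteType) : φ.hom.FiniteType := by
  letI := φ.hom.toAlgebra
  letI := (φ ≫ π.appTop).hom.toAlgebra
  letI := π.appTop.hom.toAlgebra
  haveI : IsScalarTower k Γ(X, ⊤) Γ(Y, ⊤) := IsScalarTower.of_algebraMap_eq fun _ => rfl
  haveI hft : Algebra.FiniteType k Γ(Y, ⊤) := h
  haveI : Algebra.IsIntegral Γ(X, ⊤) Γ(Y, ⊤) := ⟨fun s => by
    obtain ⟨N, hN0, t, ht⟩ := exists_pow_mem π hN s
    exact IsIntegral.of_pow hN0 (ht ▸ isIntegral_algebraMap (x := t))⟩
  haveI : Algebra.FiniteType Γ(X, ⊤) Γ(Y, ⊤) := Algebra.FiniteType.of_restrictScalars_finiteType k _ _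
  haveI : Module.Finite Γ(X, ⊤) Γ(Y, ⊤) := Algebra.IsIntegral.finite
  have hinj : Function.Injective (algebraMap Γ(X, ⊤) Γ(Y, ⊤)) := by
    intro a b e
    have hη : π (genericPoint Y) = genericPoint X :=
      ((genericPoint_spec Y).image π.continuous).eq (by
        rw [Set.image_univ, π.surjective.range_eq, closure_univ]; exact genericPoint_spec _)
    have key : ∀ c : Γ(X, ⊤), Y.presheaf.germ ⊤ (genericPoint Y) trivial (π.appTop c) =
        ffHom π hη (X.presheaf.germ ⊤ (genericPoint X) trivial c) := fun c =>
      (Scheme.Hom.germ_stalkMap_apply π ⊤ (genericPoint Y) trivial c).symm.trans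
        (congrArg (π.stalkMap (genericPoint Y))
          (TopCat.Presheaf.germ_stalkSpecializes_apply X.presheaf (U := ⊤) (hy := trivial) (specializes_of_eq hη) c).symm)
    apply germ_injective_of_isIntegral X (genericPoint X) (U := ⊤) trivial
    apply RingHom.injective (R := X.functionField) (ffHom π hη).hom
    exact (key a).symm.trans ((congrArg _ e).trans (key b))
  exact ⟨fg_of_fg_of_fg k Γ(X, ⊤) Γ(Y, ⊤) hft.out Module.Finite.fg_top hinj⟩

end Groth.L04.GlobFG
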